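import Cfsg.Agent.Lib.HN.Defs

/-! Words for an alternating subgroup of degree twelve. -/

set_option autoImplicit false

namespace Cfsg.Lib.HN.A12

/-- Data. -/
def kW : List Nat := [5, 2, 6, 5, 2, 3, 1, 1, 2, 6, 2, 0, 1, 1, 2, 3]

/-- Data. -/
def hs : List (List Nat) := [[2, 0, 5, 5, 2, 0, 1, 0, 1, 0, 1, 1, 0, 1, 1, 0, 5, 5, 0, 1, 1, 0, 1, 1, 0, 1],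
  [5, 2, 1, 2, 4, 5, 0, 5, 0, 5, 0, 1, 0, 1, 0, 5, 5, 0, 1, 0, 5, 0, 5, 0, 1],
  [1, 1, 1, 2, 1, 2, 0, 1, 1, 0, 5, 0, 5, 5, 0, 5, 0, 1, 1, 0, 1, 1, 0, 1, 1, 1, 0],
  [1, 1, 2, 5, 2, 5, 2, 5, 2, 0, 5, 5, 0, 1, 0, 1, 1, 0, 1, 0, 1, 0, 1, 1, 0, 5, 5, 0, 5, 5]]

/-- Data. -/
def six : List (List Nat) := [[1, 1],
  [4, 1, 0, 5, 5, 0, 5, 0, 5, 5, 0, 1, 0, 1, 1, 1],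
  [0, 1, 2, 1, 0, 1, 1, 2, 0, 5, 0, 1, 0, 1, 1, 0, 1, 0, 5, 5, 0, 1, 0, 1, 1, 1, 0, 1, 1, 0, 5, 0],
  [1, 1, 1, 4, 1, 0, 5, 5, 0, 5, 0, 5, 5, 0, 1, 0],
  [4, 5, 0, 1, 1, 0, 5, 0, 1, 1, 0, 5, 0],
  [1, 4, 1, 0, 5, 5, 0, 1, 0, 5, 5, 0, 1, 0, 1]]

/-- Data. -/
def moves : List (List Nat) := [[4, 5, 0, 1, 1, 0, 5, 0, 1, 1, 0, 5, 0],
  [1, 4, 1, 0, 5, 5, 0, 1, 0, 5, 5, 0, 1, 0, 1],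
  [1, 0, 1, 2, 1, 0, 1, 1, 2, 5, 0, 1, 0, 5, 0, 5, 0, 1, 0, 1, 1, 0, 5, 5, 0, 1, 0, 5, 0, 5, 0, 5],
  [1, 1, 1, 0, 5, 0, 1, 1, 1, 0, 5, 0]]

/-- Data. -/
def As : List (List Nat) := [[1, 2, 1, 2, 1, 1, 4, 1, 0, 1, 1, 1, 0, 1, 1, 0, 5, 0, 5, 0],
  [2, 5, 2, 5, 2, 5, 2, 1, 1, 0, 5, 0, 1, 1, 0, 5, 0, 1, 1],
  [1, 0, 5, 0, 5, 5, 2, 0, 1, 1, 0, 1, 0, 1, 0, 5, 0, 5, 5, 0, 1, 0, 1, 0, 5, 0, 5],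
  [5, 0, 1, 1, 2, 5, 4, 1, 1, 1, 0, 5, 0, 5, 0, 5, 0, 1, 1, 0, 1, 0, 1, 1, 0]]

/-- Data. -/
def g0 : List Nat := [1, 1, 0, 1, 1, 0, 5, 0, 5, 5, 0, 1, 0, 5, 5, 0, 1, 1, 0, 1, 0, 1]

/-- Data. -/
def ds : List (List Nat) := [[],
  [5, 5, 2, 0],
  [1, 2, 5, 2, 1, 1, 1, 2],
  [0, 1, 0, 1, 2, 0, 1, 1, 2, 0]]

/-- Data. -/
def wit : List (List (List Nat)) := [[[2, 2, 0, 3, 0, 3],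
  [5, 1, 2, 0],
  [5, 1, 1, 4],
  [4, 4, 4, 1, 1],
  [5, 0, 0, 5]],
 [[2, 2, 2, 2, 0, 2, 2, 2, 0, 2, 2, 0, 2],
  [2, 0, 5],
  [1],
  [4, 4, 0],
  [5, 1]],
 [[0, 3, 0, 3, 3, 3, 0, 2, 2, 2, 0, 2, 0],
  [5, 0, 2],
  [0, 0, 2, 1, 1],
  [2, 1, 2, 1],
  [1, 4, 1, 1]],
 [[2, 0, 2, 2, 0, 2, 2, 0, 2],
  [1, 4],
  [0, 0, 5, 2],
  [0, 2, 1, 4, 0],
  [4, 4, 4, 0]],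
 [[2, 4, 2, 2, 0, 4, 2],
  [3, 0, 2, 0, 2, 4, 0, 4, 2, 0],
  [0, 3, 0, 2, 0],
  [1, 4, 0, 5],
  [2, 0, 2, 1, 2, 0, 2, 0, 2]],
 [[4, 3, 0, 3, 4, 0, 2, 0, 2],
  [2, 2, 1, 2, 2, 2, 0, 2],
  [0, 3, 3],
  [5, 1, 4, 2],
  [0]],
 [[2, 4, 2, 4, 0, 2, 0, 3, 0],
  [0, 2, 2, 2, 0, 2, 0, 3, 0, 2],
  [2, 1, 1],
  [2, 1, 3, 0, 2, 0, 2, 0],
  [4, 1, 4, 2]],
 [[2, 4, 2, 4, 2, 0, 2, 0],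
  [1, 2, 1, 2, 2, 2],
  [0, 5, 1, 4, 0],
  [1, 2, 0, 3, 0],
  [2]]]

end Cfsg.Lib.HN.A12
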