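import Cfsg.Agent.Lib.HN.A12.Relations
import Cfsg.Agent.Lib.PresSymAlt.Carmichael
import Mathlib.GroupTheory.SpecificGroups.Alternating.Simple

/-!
# An alternating subgroup of degree twelve
-/

set_option autoImplicit false
set_option maxRecDepth 100000

namespace Cfsg.Lib.HN.A12

open Top Cfsg.Lib.PresSymAlt

/-- The element carrying the central involution to the one in the alternating group of degree eight. -/
noncomputable abbrev K : Spor.HN := val hx kW

/-- The three-cycles. -/
noncomputable def y (i : Fin 10) : Spor.HN :=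
  if i.1 < 6 then val hx (six.getD i.1 []) else K * val hx (hs.getD (i.1 - 6) []) * K⁻¹

theorem conj_hom (c g h : Spor.HN) : c * (g * h) * c⁻¹ = c * g * c⁻¹ * (c * h * c⁻¹) := by group

theorem pair_comm {g h : Spor.HN} (h1 : (g * h) ^ 2 = 1) : (h * g) ^ 2 = 1 := by
  rw [show (h * g) ^ 2 = g⁻¹ * (g * h) ^ 2 * g by simp [pow_two, mul_assoc], h1]
  group

theorem conj_pair {c w v : Spor.HN} (hc : c * w = w * c) (h : (w * v) ^ 2 = 1) :
    (w * (c * v * c⁻¹)) ^ 2 = 1 := by
  rw [show w * (c * v * c⁻¹) = c * (w * v) * c⁻¹ by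
    rw [conj_hom, show c * w * c⁻¹ = w by rw [hc, mul_inv_cancel_right]], conj_pow, h]
  group

theorem sq_pair {g h : Spor.HN} (e : g * h * g * h = 1) : (g * h) ^ 2 = 1 := by
  rw [pow_two, ← mul_assoc]; exact e

theorem cross {j : ℕ} (hj : j < 4) {i : ℕ} (hi : i < 6) :
    (K * val hx (hs.getD j []) * K⁻¹ * val hx (six.getD i [])) ^ 2 = 1 := by
  set w := K * val hx (hs.getD j []) * K⁻¹
  have hjm : hs.getD j [] ∈ hs := by
    rw [List.getD_eq_getElem _ _ (by simpa [hs] using hj)]; exact List.getElem_mem _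
  have htr : ∀ i < 4, val hx (moves.getD i []) = K * val hx (As.getD i []) * K⁻¹ := by
    intro i hi
    have h := outer_eq i (by omega)
    rw [show outerEqs.getD i ([], []) = (moves.getD i [] ++ kW, kW ++ As.getD i []) by
      interval_cases i <;> rfl] at h
    simp only [val_append] at h
    rw [← h, mul_inv_cancel_right]
  have hg0 : val hx g0 * w = w * val hx g0 := by
    have h := outer_eq (4 + j) (by omega)
    rw [show outerEqs.getD (4 + j) ([], []) = (g0 ++ kW ++ hs.getD j [] ++ winv kW,
      kW ++ hs.getD j [] ++ winv kW ++ g0) by interval_cases j <;> rfl] at h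
    simp only [val_append, val_winv hx_inv] at h
    simpa [w, mul_assoc] using h
  have hin := inner_eq
  simp only [innerEqs, List.mem_append, List.mem_flatMap] at hin
  have hA : ∀ p ∈ [(hs.getD j [] ++ As.getD 0 [] ++ hs.getD j [] ++ As.getD 0 [], ([] : List ℕ)),
      (hs.getD j [] ++ As.getD 1 [] ++ hs.getD j [] ++ As.getD 1 [], []),
      (As.getD 2 [] ++ hs.getD j [], hs.getD j [] ++ As.getD 2 []),
      (As.getD 3 [] ++ hs.getD j [], hs.getD j [] ++ As.getD 3 [])], val hx p.1 = val hx p.2 :=
    fun p hp => hin p (Or.inl (Or.inr ⟨_, hjm, hp⟩))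
  simp only [List.mem_cons, forall_eq_or_imp, List.not_mem_nil, false_implies, imp_true_iff,
    and_true, val_append, val_nil] at hA
  obtain ⟨a0, a1, a2, a3⟩ := hA
  have h4 : ∀ a, val hx (hs.getD j []) * a * val hx (hs.getD j []) * a = 1 →
      (w * (K * a * K⁻¹)) ^ 2 = 1 := fun a h => by
    rw [show w * (K * a * K⁻¹) = K * (val hx (hs.getD j []) * a) * K⁻¹ by
      simp only [w]; group, conj_pow, sq_pair h]
    group
  have hc : ∀ a, a * val hx (hs.getD j []) = val hx (hs.getD j []) * a →
      (K * a * K⁻¹) * w = w * (K * a * K⁻¹) := fun a h => by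
    simp only [w]
    rw [← conj_hom, ← conj_hom, h]
  have hm : ∀ p ∈ [(g0 ++ six.getD 5 [] ++ winv g0, six.getD 0 []),
      (moves.getD 3 [] ++ six.getD 0 [] ++ winv (moves.getD 3 []), six.getD 1 []),
      (moves.getD 2 [] ++ six.getD 0 [] ++ winv (moves.getD 2 []), six.getD 2 []),
      (moves.getD 2 [] ++ six.getD 1 [] ++ winv (moves.getD 2 []), six.getD 3 [])],
      val hx p.1 = val hx p.2 := fun p hp => hin p (Or.inr hp)
  simp only [List.mem_cons, forall_eq_or_imp, List.not_mem_nil, false_implies, imp_true_iff,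
    and_true, val_append, val_winv hx_inv] at hm
  obtain ⟨m0, m1, m2, m3⟩ := hm
  have e4 : (w * val hx (six.getD 4 [])) ^ 2 = 1 := by
    rw [show six.getD 4 [] = moves.getD 0 [] from rfl, htr 0 (by norm_num)]; exact h4 _ a0
  have e5 : (w * val hx (six.getD 5 [])) ^ 2 = 1 := by
    rw [show six.getD 5 [] = moves.getD 1 [] from rfl, htr 1 (by norm_num)]; exact h4 _ a1
  have c2 : val hx (moves.getD 2 []) * w = w * val hx (moves.getD 2 []) := by
    rw [htr 2 (by norm_num)]; exact hc _ a2
  have c3 : val hx (moves.getD 3 []) * w = w * val hx (moves.getD 3 []) := by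
    rw [htr 3 (by norm_num)]; exact hc _ a3
  have f0 : (w * val hx (six.getD 0 [])) ^ 2 = 1 := by rw [← m0]; exact conj_pair hg0 e5
  have f1 : (w * val hx (six.getD 1 [])) ^ 2 = 1 := by rw [← m1]; exact conj_pair c3 f0
  interval_cases i
  · exact f0
  · exact f1
  · rw [← m2]; exact conj_pair c2 f0
  · rw [← m3]; exact conj_pair c2 f1
  · exact e4
  · exact e5

theorem carRel : CarRel y := by
  have hin := inner_eq
  simp only [innerEqs, List.mem_append, List.mem_flatMap, List.mem_map] at hin
  have hcube : ∀ s, (s ∈ six ∨ s ∈ hs) → val hx s ^ 3 = 1 := fun s hs' => by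
    have h := hin (s ++ s ++ s, []) (Or.inl (Or.inl (Or.inl (Or.inl ⟨s, hs', rfl⟩))))
    simp only [val_append, val_nil] at h
    rw [← h]; simp [pow_succ, mul_assoc]
  have h6 : six.length = 6 := rfl
  have h4 : hs.length = 4 := rfl
  have hmem : ∀ {l : List (List ℕ)} {i : ℕ}, i < l.length → l.getD i [] ∈ l := fun {l i} h => by
    rw [List.getD_eq_getElem _ _ h]; exact List.getElem_mem _
  refine ⟨fun i => ?_, fun i j hij => ?_⟩
  · unfold y
    split
    · exact hcube _ (Or.inl (hmem (by omega)))
    · rw [conj_pow, hcube _ (Or.inr (hmem (by omega)))]; group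
  · unfold y
    have hne : i.1 ≠ j.1 := fun h => hij (Fin.ext h)
    split <;> split
    · have h := hin (six.getD i.1 [] ++ six.getD j.1 [] ++ six.getD i.1 [] ++ six.getD j.1 [], [])
        (Or.inl (Or.inl (Or.inl (Or.inr ⟨i.1, List.mem_range.2 ‹_›, j.1, List.mem_range.2 ‹_›,
          by rw [if_neg hne]; simp⟩))))
      simp only [val_append, val_nil] at h
      rw [← h]; simp [pow_two, mul_assoc]
    · exact pair_comm (cross (by omega) ‹_›)
    · exact cross (by omega) ‹_›
    · have h := hin (hs.getD (i.1 - 6) [] ++ hs.getD (j.1 - 6) [] ++ hs.getD (i.1 - 6) [] ++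
          hs.getD (j.1 - 6) [], [])
        (Or.inl (Or.inl (Or.inr ⟨i.1 - 6, List.mem_range.2 (by omega), j.1 - 6,
          List.mem_range.2 (by omega), by rw [if_neg (by omega)]; simp⟩)))
      simp only [val_append, val_nil] at h
      rw [← conj_hom, conj_pow, sq_pair h]
      group

theorem y_zero : y 0 ≠ 1 := by
  intro h
  have h' : val hx (six.getD 0 []) = 1 := h
  have hl : lettersIn [0, 1, 2, 4, 5] (six.getD 0 []) = true := by decide +kernel
  rw [← φP_val (mem_of_lettersIn hl), ← map_one φP] at h'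
  have h2 := congrArg (fun a : PS => (ψP a ⟨139, by norm_num⟩).1) (φP_injective h')
  simp only [map_one] at h2
  have hv := model.eval _ hl ⟨139, by norm_num⟩
  rw [hv] at h2
  revert h2
  decide +kernel

/-- The alternating group of degree twelve embeds. -/
theorem exists_embedding : ∃ f : alternatingGroup (Fin 12) →* Spor.HN, Function.Injective f := by
  obtain ⟨ψ, hψ, -⟩ := carmichael carRel
  let e : Fin 12 ≃ Fin 10 ⊕ Bool := Fintype.equivOfCardEq (by simp)
  let e' := Equiv.altCongrHom e
  refine ⟨ψ.comp e'.toMonoidHom, ?_⟩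
  haveI : IsSimpleGroup (alternatingGroup (Fin 10 ⊕ Bool)) :=
    alternatingGroup.isSimpleGroup (by simp)
  have hinj : Function.Injective ψ := by
    rw [← MonoidHom.ker_eq_bot_iff]
    refine ((inferInstance : ψ.ker.Normal).eq_bot_or_eq_top).resolve_right fun h => y_zero ?_
    rw [← hψ 0]
    exact MonoidHom.mem_ker.1 (h ▸ Subgroup.mem_top _)
  exact hinj.comp e'.injective

/-- The presented group as a permutation group on the cosets. -/
theorem realisation : ∃ H : Subgroup (Equiv.Perm (Fin 1140000)), IsHN H ∧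
    MulAction.IsPretransitive H (Fin 1140000) ∧
    Nonempty (MulAction.stabilizer H (0 : Fin 1140000) ≃* alternatingGroup (Fin 12)) := by
  haveI : Finite Spor.HN := Nat.finite_of_card_ne_zero (by rw [card_HN]; norm_num)
  obtain ⟨f, hf⟩ := exists_embedding
  set A := f.range
  have hcA : Nat.card A = 239500800 := by
    rw [← Nat.card_congr (MonoidHom.ofInjective hf).toEquiv, nat_card_alternatingGroup,
      Nat.card_fin]
    rfl
  have hidx : A.index = 1140000 := by
    have h := Subgroup.card_mul_index A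
    rw [hcA, card_HN] at h
    omega
  haveI : Finite (Spor.HN ⧸ A) := inferInstance
  obtain ⟨e, he⟩ : ∃ e : Spor.HN ⧸ A ≃ Fin 1140000, e ((1 : Spor.HN) : Spor.HN ⧸ A) = 0 := by
    have e0 : Spor.HN ⧸ A ≃ Fin 1140000 :=
      (Finite.equivFinOfCardEq (show Nat.card (Spor.HN ⧸ A) = 1140000 from hidx))
    exact ⟨e0.trans (Equiv.swap (e0 ((1 : Spor.HN) : Spor.HN ⧸ A)) 0),
      by simp only [Equiv.trans_apply, Equiv.swap_apply_left]⟩
  let ρ : Spor.HN →* Equiv.Perm (Fin 1140000) :=
    e.permCongrHom.toMonoidHom.comp (MulAction.toPermHom Spor.HN (Spor.HN ⧸ A))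
  have hρ : ∀ g q, ρ g (e q) = e (g • q) := fun g q => by
    show e (g • e.symm (e q)) = _
    rw [e.symm_apply_apply]
  have hρinj : Function.Injective ρ := by
    haveI := isSimple
    rw [← MonoidHom.ker_eq_bot_iff]
    refine ((inferInstance : ρ.ker.Normal).eq_bot_or_eq_top).resolve_right fun h => ?_
    have hle : ∀ g : Spor.HN, g ∈ A := fun g => by
      have hg : ρ g = 1 := MonoidHom.mem_ker.1 (h ▸ Subgroup.mem_top g)
      have h1 := hρ g ((1 : Spor.HN) : Spor.HN ⧸ A)
      rw [hg, Equiv.Perm.one_apply, MulAction.Quotient.smul_coe, smul_eq_mul, mul_one] at h1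
      simpa using QuotientGroup.eq.1 (e.injective h1)
    rw [Subgroup.index_eq_one.2 (eq_top_iff.2 fun g _ => hle g)] at hidx
    norm_num at hidx
  let eρ : Spor.HN ≃* ρ.range := MonoidHom.ofInjective hρinj
  refine ⟨ρ.range, ⟨eρ.isSimpleGroup_congr.1 isSimple,
    by rw [← Nat.card_congr eρ.toEquiv, card_HN]⟩, ⟨fun p q => ?_⟩, ?_⟩
  · obtain ⟨g, hg⟩ := MulAction.exists_smul_eq Spor.HN (e.symm p) (e.symm q)
    refine ⟨eρ g, ?_⟩
    show ρ g p = q
    rw [← e.apply_symm_apply p, hρ, hg, e.apply_symm_apply]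
  · have hstab : MulAction.stabilizer ρ.range (0 : Fin 1140000) = A.map eρ.toMonoidHom := by
      ext r
      obtain ⟨g, rfl⟩ := eρ.surjective r
      constructor
      · intro h
        have h1 : ρ g (0 : Fin 1140000) = 0 := h
        rw [← he, hρ, MulAction.Quotient.smul_coe, smul_eq_mul, mul_one] at h1
        have h2 := QuotientGroup.eq.1 (e.injective h1)
        exact ⟨g, by simpa using h2, rfl⟩
      · rintro ⟨g', hg', hgg⟩
        obtain rfl := eρ.injective hgg
        show ρ g' (0 : Fin 1140000) = 0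
        rw [← he, hρ, MulAction.Quotient.smul_coe, smul_eq_mul, mul_one]
        exact congrArg e (QuotientGroup.eq.2 (by simpa using inv_mem hg'))
    exact ⟨(MulEquiv.subgroupCongr hstab).trans
      ((A.equivMapOfInjective eρ.toMonoidHom eρ.injective).symm.trans (MonoidHom.ofInjective hf).symm)⟩

end Cfsg.Lib.HN.A12
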