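import Cfsg.Agent.Lib.HN.Simple
import Cfsg.Agent.Lib.HN.A12.Data

/-!
# Equations in the presented group for the alternating subgroup of degree twelve

An element fixing the base coset and four further cosets is trivial, so an equation of words is
checked by five evaluations.
-/

set_option autoImplicit false
set_option maxRecDepth 100000

namespace Cfsg.Lib.HN.A12

open Top Top.Data

/-- The test points. -/
def states : List (ℕ × List ℕ) := (0, []) :: ds.map fun d => (1, d)

/-- The two sides agree on the test points. -/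
noncomputable def eqOK (A B : List ℕ) (w : List (List ℕ)) : Bool :=
  (A.all fun g => Nat.blt g 7) && (B.all fun g => Nat.blt g 7) &&
  (List.range states.length).all fun i =>
    sameOK sys odata (evW sys odata A (states.getD i (0, []))) (evW sys odata B (states.getD i (0, [])))
      (w.getD i [])

theorem ds_base : ∀ L ∈ ModelP.chainP, ∃ d ∈ ds,
    lettersIn sys.S d = true ∧ twalk sys.P (winv d) 0 = L.point := by
  have h : ModelP.chainP.all (fun L => ds.any fun d =>
      lettersIn sys.S d && Nat.beq (twalk sys.P (winv d) 0) L.point) = true := by decide +kernel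
  intro L hL
  have h' := List.all_eq_true.1 h L hL
  simp only [List.any_eq_true, Bool.and_eq_true, Nat.beq_eq] at h'
  exact h'

theorem hn_eq {A B : List ℕ} {w : List (List ℕ)} (h : eqOK A B w = true) : val hx A = val hx B := by
  simp only [eqOK, Bool.and_eq_true, List.all_eq_true, Nat.blt_eq, List.mem_range] at h
  obtain ⟨⟨hA, hB⟩, hev⟩ := h
  have hlet : ∀ p ∈ states, p.1 < 9 ∧ lettersIn sys.S p.2 = true := by
    have h : states.all (fun p => Nat.blt p.1 9 && lettersIn sys.S p.2) = true := by decide +kernel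
    intro p hp
    simpa [Bool.and_eq_true, Nat.blt_eq] using List.all_eq_true.1 h p hp
  set g := (val hx A)⁻¹ * val hx B with hg
  have hfix : ∀ p ∈ states, act g (pt p) = pt p := by
    intro p hp
    obtain ⟨i, hi, rfl⟩ := List.getElem_of_mem hp
    obtain ⟨h1, h2⟩ := hlet _ (List.getElem_mem hi)
    obtain ⟨eA, a1, -⟩ := actW_pt hA h1 h2
    obtain ⟨eB, -, -⟩ := actW_pt hB h1 h2
    have hs := hev i hi
    rw [List.getD_eq_getElem _ _ hi] at hs
    have he : act (val hx A) (pt states[i]) = act (val hx B) (pt states[i]) := by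
      rw [act_hx hA, act_hx hB, eA, eB]
      exact pt_of_same hs a1
    rw [hg, map_mul, map_inv, Equiv.Perm.mul_apply, ← he, Equiv.Perm.inv_eq_iff_eq]
  have hgH : g ∈ Hsub := by
    have h0 := congrArg toCos (hfix (0, []) (by simp [states]))
    rw [toCos_act, show pt (0, []) = ω0 from rfl, toCos_ω0, smul_c0] at h0
    have h1 := QuotientGroup.eq.1 (h0.trans (show c0 = ((1 : Spor.HN) : Cos) from rfl))
    simpa using h1
  rw [Hsub_eq] at hgH
  obtain ⟨a, ha⟩ := hgH
  have ha1 : a = 1 := by
    refine PS_base.2 a 1 fun L hL i hi => ?_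
    rw [map_one]
    obtain ⟨d, hd, hdl, hdp⟩ := ds_base L hL
    have hK1 : odata.Kj (wgen relP) ⟨1, by rw [K_length]; norm_num⟩ ≤ stab0 := by
      refine (Subgroup.closure_le _).2 ?_
      rintro _ ⟨u, hu, rfl⟩
      refine Fin.ext ?_
      rw [eval_zero (kgens_letters odata_valid 1 u hu)]
      show _ = 0
      exact (show ∀ u ∈ odata.kgens 1, twalk sys.P (winv u) 0 = 0 by decide +kernel) u hu
    have h1 := hfix (1, d) (List.mem_cons_of_mem _ (List.mem_map.2 ⟨d, hd, rfl⟩))
    rw [← ha, show act (φP a) = smHom a from DFunLike.congr_fun act_φP a] at h1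
    change sm a (pt (1, d)) = pt (1, d) at h1
    rw [pt_eq (j := ⟨1, by rw [K_length]; norm_num⟩), sm, osmul_mk, OData.mk', OData.mk'] at h1
    have h3 := hK1 (QuotientGroup.eq.1 (eq_of_heq (Sigma.mk.inj h1).2).symm)
    have h4 : ψP ((val (wgen relP) d)⁻¹ * (a * val (wgen relP) d)) o = o := h3
    have hdi : ψP (val (wgen relP) d) o = i := Fin.ext (by rw [eval_zero hdl, hdp, hi])
    rw [map_mul, map_mul, map_inv, Equiv.Perm.mul_apply, Equiv.Perm.mul_apply, hdi,
      Equiv.Perm.inv_eq_iff_eq, hdi] at h4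
    exact h4
  rw [ha1, map_one] at ha
  exact inv_mul_eq_one.1 ha.symm

/-- The equations with the outer letter. -/
def outerEqs : List (List ℕ × List ℕ) :=
  ((List.range 4).map fun i => (moves.getD i [] ++ kW, kW ++ As.getD i [])) ++
    (List.range 4).map fun j =>
      (g0 ++ kW ++ hs.getD j [] ++ winv kW, kW ++ hs.getD j [] ++ winv kW ++ g0)

theorem outer_ok0 : eqOK (outerEqs.getD 0 ([], [])).1 (outerEqs.getD 0 ([], [])).2 (wit.getD 0 []) = true := by
  decide +kernel

theorem outer_ok1 : eqOK (outerEqs.getD 1 ([], [])).1 (outerEqs.getD 1 ([], [])).2 (wit.getD 1 []) = true := by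
  decide +kernel

theorem outer_ok2 : eqOK (outerEqs.getD 2 ([], [])).1 (outerEqs.getD 2 ([], [])).2 (wit.getD 2 []) = true := by
  decide +kernel

theorem outer_ok3 : eqOK (outerEqs.getD 3 ([], [])).1 (outerEqs.getD 3 ([], [])).2 (wit.getD 3 []) = true := by
  decide +kernel

theorem outer_ok4 : eqOK (outerEqs.getD 4 ([], [])).1 (outerEqs.getD 4 ([], [])).2 (wit.getD 4 []) = true := by
  decide +kernel

theorem outer_ok5 : eqOK (outerEqs.getD 5 ([], [])).1 (outerEqs.getD 5 ([], [])).2 (wit.getD 5 []) = true := by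
  decide +kernel

theorem outer_ok6 : eqOK (outerEqs.getD 6 ([], [])).1 (outerEqs.getD 6 ([], [])).2 (wit.getD 6 []) = true := by
  decide +kernel

theorem outer_ok7 : eqOK (outerEqs.getD 7 ([], [])).1 (outerEqs.getD 7 ([], [])).2 (wit.getD 7 []) = true := by
  decide +kernel

theorem outer_eq : ∀ i < 8, val hx (outerEqs.getD i ([], [])).1 = val hx (outerEqs.getD i ([], [])).2 := by
  intro i hi
  interval_cases i
  · exact hn_eq outer_ok0
  · exact hn_eq outer_ok1
  · exact hn_eq outer_ok2
  · exact hn_eq outer_ok3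
  · exact hn_eq outer_ok4
  · exact hn_eq outer_ok5
  · exact hn_eq outer_ok6
  · exact hn_eq outer_ok7

/-- The equations inside the double cover. -/
def innerEqs : List (List ℕ × List ℕ) :=
  (six ++ hs).map (fun s => (s ++ s ++ s, [])) ++
  ((List.range 6).flatMap fun i => (List.range 6).flatMap fun j =>
    if i = j then [] else [(six.getD i [] ++ six.getD j [] ++ six.getD i [] ++ six.getD j [], [])]) ++
  ((List.range 4).flatMap fun i => (List.range 4).flatMap fun j =>
    if i = j then [] else [(hs.getD i [] ++ hs.getD j [] ++ hs.getD i [] ++ hs.getD j [], [])]) ++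
  (hs.flatMap fun h => [(h ++ As.getD 0 [] ++ h ++ As.getD 0 [], []),
    (h ++ As.getD 1 [] ++ h ++ As.getD 1 [], []),
    (As.getD 2 [] ++ h, h ++ As.getD 2 []), (As.getD 3 [] ++ h, h ++ As.getD 3 [])]) ++
  [(g0 ++ six.getD 5 [] ++ winv g0, six.getD 0 []),
    (moves.getD 3 [] ++ six.getD 0 [] ++ winv (moves.getD 3 []), six.getD 1 []),
    (moves.getD 2 [] ++ six.getD 0 [] ++ winv (moves.getD 2 []), six.getD 2 []),
    (moves.getD 2 [] ++ six.getD 1 [] ++ winv (moves.getD 2 []), six.getD 3 [])]

theorem inner_ok : innerEqs.all (fun p => eqW sys p.1 p.2) = true := by decide +kernel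

theorem inner_eq : ∀ p ∈ innerEqs, val hx p.1 = val hx p.2 := fun p hp => by
  have h := List.all_eq_true.1 inner_ok p hp
  have hl := h
  simp only [eqW, Bool.and_eq_true] at hl
  rw [← φP_val (mem_of_lettersIn hl.1.1), ← φP_val (mem_of_lettersIn hl.1.2), model.eq _ _ h]

end Cfsg.Lib.HN.A12
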